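import Mathlib
import Cfsg.Agent.Lib.Helper5.TWU.Defs
import Cfsg.Agent.Lib.Helper23.TWUQU

/-!
S5672 (C7 unitary; owner helper5) Stage I: the structures `CtxU`, `KeyU`, `MaxCfgU` and the predicates `Delta0`, `FRU`
used by the Stage I packets (unitary copies of `Helper8.TW.StageIDefs` of S5641; see `notes/S5672_stageI_helper5.md`).

* `CtxU q X`      : standing hypotheses of Stage I (`H ≤ X ≤ Δ`, `NS`), with the derived `(FC)`;
* `KeyU hF g r₁ r₂ x r₃` : output of the fixed point trick (I2) + (I3);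
* `MaxCfgU q X g r₂ r` : an extremal pair: `r.W ∩ g r₂.W ≠ 0` of maximal dimension (`δ > 0`);
* `Delta0 q X`    : `δ = 0`;   `FRU q X` : the FR-world (`g r₂.W ∩ r.C = 0` for all admissible `r, r₂`, `g ∈ X \ G`).
-/

set_option autoImplicit false
set_option linter.unusedSectionVars false
set_option linter.unusedVariables false

namespace Cfsg.Agent.Lib.Helper8.TWU
open Matrix Cfsg.Geo Cfsg.Agent.Lib.Helper18.AschA89 Cfsg.Agent.Lib.Helper8.TW Cfsg.Agent.Lib.Helper5.TWU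
open Cfsg.Agent.Lib.Helper20.UT (hv)

variable {F : Type*} [Field F] [Fintype F] {t k : ℕ}

/-- the standing hypotheses of Stage I (unitary) -/
structure CtxU (q : ℕ) (X : Subgroup (GL (Idx t k) F)) : Prop where
  hF : Fintype.card F = q ^ 2
  hk : 3 ≤ k
  ht : 2 ≤ t
  hex : ¬ (q = 2 ∧ k = 3)
  hHX : HU t k q F ≤ X
  hXD : X ≤ DUV t k q F
  ns : NSU q X

/-- fusion control holds in the Stage I context (helper23's block (Q')) -/
theorem CtxU.fc {q : ℕ} {X : Subgroup (GL (Idx t k) F)} (c : CtxU q X) : FCU q X :=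
  Cfsg.Agent.Lib.Helper23.TWUQU.fcu_of_nsu c.hF c.hk c.hex X c.hXD c.ns

/-- the output of the fixed point trick (I2) + (I3) for `g`, `r₁`, `r₂`:
`x ∈ ⟨T₁, T'⟩` with `x⁻¹ g ∈ G`; `r₃ = (x⁻¹ g) r₂` admissible -/
structure KeyU {q : ℕ} (hF : Fintype.card F = q ^ 2) (g : GL (Idx t k) F) (r₁ r₂ : RD t k F)
    (x : GL (Idx t k) F) (r₃ : RD t k F) : Prop where
  x_mem : x ∈ ugrp hF r₁ ⊔ conjG g (ugrp hF r₂)
  h_mem : x⁻¹ * g ∈ Gstd t k F
  hr₃ : RU q r₃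
  hW : img x r₃.W = img g r₂.W
  hC : img x r₃.C = img g r₂.C
  hT : conjG x (ugrp hF r₃) = conjG g (ugrp hF r₂)
  h1 : r₃.W ≤ r₁.W ⊔ img g r₂.W
  h2 : img g r₂.W ⊓ r₁.C ≤ r₃.W
  h3 : r₁.C ⊓ img g r₂.C ≤ r₃.C
  hx1 : ∀ v, mv x v - v ∈ r₁.W ⊔ img g r₂.W
  hx2 : ∀ v ∈ r₁.C ⊓ img g r₂.C, mv x v = v

/-- an extremal pair: `r.W ∩ g r₂.W ≠ 0` of MAXIMAL dimension over all `g ∈ X \ G` and admissible `r, r₂` -/
structure MaxCfgU (q : ℕ) (X : Subgroup (GL (Idx t k) F)) (g : GL (Idx t k) F) (r₂ r : RD t k F) : Prop where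
  hgX : g ∈ X
  hgG : g ∉ Gstd t k F
  hr₂ : RU q r₂
  hr : RU q r
  hne : r.W ⊓ img g r₂.W ≠ ⊥
  hmax : ∀ g' ∈ X, g' ∉ Gstd t k F → ∀ (r₂' r' : RD t k F), RU q r₂' → RU q r' →
    Module.finrank F (r'.W ⊓ img g' r₂'.W : Submodule F (Idx t k → F)) ≤
      Module.finrank F (r.W ⊓ img g r₂.W : Submodule F (Idx t k → F))

/-- `δ = 0`: an isotropic fibre meets no image `g W̃` (`g ∈ X \ G`, `W̃` an isotropic fibre) -/
def Delta0 (q : ℕ) (X : Subgroup (GL (Idx t k) F)) : Prop :=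
  ∀ g ∈ X, g ∉ Gstd t k F → ∀ (r r₂ : RD t k F), RU q r → RU q r₂ → r.W ⊓ img g r₂.W = ⊥

/-- the FR-world: `g W̃ ∩ W^⊥ = 0` for all isotropic fibres `W, W̃` and `g ∈ X \ G` -/
def FRU (q : ℕ) (X : Subgroup (GL (Idx t k) F)) : Prop :=
  ∀ g ∈ X, g ∉ Gstd t k F → ∀ (r r₂ : RD t k F), RU q r → RU q r₂ → img g r₂.W ⊓ r.C = ⊥

end Cfsg.Agent.Lib.Helper8.TWU
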